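import Mathlib.RingTheory.QuasiFinite.Basic
import Mathlib.RingTheory.Flat.EquationalCriterion
import Mathlib.RingTheory.Flat.Stability
import Mathlib.RingTheory.Finiteness.ModuleFinitePresentation
import Mathlib.RingTheory.Localization.BaseChange
import Mathlib.RingTheory.LocalRing.ResidueField.Fiber
import Mathlib.RingTheory.FinitePresentation
import Mathlib.Tactic

/-!
# Elements of flat quasi-finite algebras lie in `F ^ r` for an ideal `F`
-/

set_option autoImplicit false
set_option linter.unusedSectionVars false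
set_option linter.style.haveILetI false

universe u

open TensorProduct

namespace FlatQFAnn

variable {R B : Type u} [CommRing R] [CommRing B] [Algebra R B]

theorem exists_mem_of_tmul_eq_zero (J : Ideal R) (S : Submonoid (R ⧸ J)) (A : Type u) [CommRing A] [Algebra (R ⧸ J) A]
    [IsLocalization S A] [Algebra R A] [IsScalarTower R (R ⧸ J) A] (b : B) (h : (1 : A) ⊗ₜ[R] b = 0) :
    ∃ s, Ideal.Quotient.mk J s ∈ S ∧ s • b ∈ J • (⊤ : Submodule R B) := by
  let e := AlgebraTensorModule.cancelBaseChange R (R ⧸ J) A A B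
  have he : e ((1 : A) ⊗ₜ[R ⧸ J] ((1 : R ⧸ J) ⊗ₜ[R] b)) = (1 : A) ⊗ₜ[R] b := by simp [e]
  rw [h, ← e.map_zero] at he
  haveI : IsLocalizedModule S (TensorProduct.mk (R ⧸ J) A ((R ⧸ J) ⊗[R] B) 1) :=
    (isLocalizedModule_iff_isBaseChange S A _).2 (TensorProduct.isBaseChange _ _ _)
  obtain ⟨⟨s, hs⟩, hs0⟩ := (IsLocalizedModule.eq_zero_iff S
    (TensorProduct.mk (R ⧸ J) A ((R ⧸ J) ⊗[R] B) 1)).1 (e.injective he)
  obtain ⟨s, rfl⟩ := Ideal.Quotient.mk_surjective s
  refine ⟨s, hs, ?_⟩
  have h1 : (1 : R ⧸ J) ⊗ₜ[R] (s • b) = 0 := by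
    rw [TensorProduct.tmul_smul, ← hs0]
    show s • ((1 : R ⧸ J) ⊗ₜ[R] b) = Ideal.Quotient.mk J s • ((1 : R ⧸ J) ⊗ₜ[R] b)
    rw [← Ideal.Quotient.algebraMap_eq, algebraMap_smul]
  have h2 := congrArg (TensorProduct.quotTensorEquivQuotSMul B J) h1
  rw [map_zero, ← map_one (Ideal.Quotient.mk J), TensorProduct.quotTensorEquivQuotSMul_mk_tmul, one_smul,
    Submodule.Quotient.mk_eq_zero] at h2
  exact h2

theorem exists_mul_mem_of_tmul_eq_zero (P : Ideal R) [P.IsPrime] (b : B)
    (h : (1 : P.ResidueField) ⊗ₜ[R] b = 0) : ∃ s, s ∉ P ∧ s • b ∈ P • (⊤ : Submodule R B) := by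
  obtain ⟨s, hs, hb⟩ := exists_mem_of_tmul_eq_zero P (nonZeroDivisors (R ⧸ P)) P.ResidueField b h
  exact ⟨s, fun hsP => nonZeroDivisors.ne_zero hs (Ideal.Quotient.eq_zero_iff_mem.2 hsP), hb⟩

theorem mem_of_sum_mem (P : Ideal R) [P.IsPrime] {n : ℕ} {e : Fin n → B}
    (hind : LinearIndependent P.ResidueField fun i => (1 : P.ResidueField) ⊗ₜ[R] e i) {x : Fin n → R}
    (h : (1 : P.ResidueField) ⊗ₜ[R] (∑ i, x i • e i) = 0) (i : Fin n) : x i ∈ P := by
  rw [TensorProduct.tmul_sum] at h
  have h1 : ∑ i, algebraMap R P.ResidueField (x i) • ((1 : P.ResidueField) ⊗ₜ[R] e i) = 0 := by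
    rw [← h]
    exact Finset.sum_congr rfl fun i _ => by rw [algebraMap_smul, TensorProduct.tmul_smul]
  have h2 := Fintype.linearIndependent_iff.1 hind _ h1 i
  rwa [← RingHom.mem_ker, Ideal.ker_algebraMap_residueField] at h2

/-- A spanning family of a flat finite algebra of finite presentation which is independent at a prime
is independent near it. -/
theorem exists_kills {A C : Type u} [CommRing A] [CommRing C] [Algebra A C] [Module.Flat A C]
    [Algebra.FinitePresentation A C] {n : ℕ} (e : Fin n → C) (hspan : Submodule.span A (Set.range e) = ⊤)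
    (Q : Ideal A) [Q.IsPrime] (hind : ∀ x : Fin n → A, ∑ i, x i • e i = 0 → ∀ i, x i ∈ Q) :
    ∃ a, a ∉ Q ∧ ∀ x : Fin n → A, ∑ i, x i • e i = 0 → a • x = 0 := by
  classical
  haveI : Module.Finite A C := ⟨Submodule.fg_def.2 ⟨Set.range e, Set.finite_range e, hspan⟩⟩
  haveI : Module.FinitePresentation A C := Module.FinitePresentation.of_finite_of_finitePresentation A C
  haveI : Module.Projective A C := Module.Flat.projective_of_finitePresentation
  let π : (Fin n → A) →ₗ[A] C := Fintype.linearCombination A e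
  have hπ : Function.Surjective π := by
    rw [← LinearMap.range_eq_top, Fintype.range_linearCombination, hspan]
  have hπx : ∀ x : Fin n → A, π x = ∑ i, x i • e i := fun x => Fintype.linearCombination_apply A e x
  obtain ⟨σ, hσ⟩ := Module.projective_lifting_property π LinearMap.id hπ
  have hfg : (LinearMap.ker π).FG := Module.FinitePresentation.fg_ker π hπ
  have hle : LinearMap.ker π ≤ Q • LinearMap.ker π := by
    intro x hx
    have hxQ : ∀ i, x i ∈ Q := hind x (by rw [← hπx]; exact hx)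
    have hτ : ∀ y : Fin n → A, y - σ (π y) ∈ LinearMap.ker π := fun y => by
      rw [LinearMap.mem_ker, map_sub, sub_eq_zero]
      exact (LinearMap.congr_fun hσ (π y)).symm
    have hx' : x = ∑ i, x i • (Pi.single i 1 - σ (π (Pi.single i 1))) := by
      calc x = x - σ (π x) := by rw [LinearMap.mem_ker.1 hx, map_zero, sub_zero]
        _ = (∑ i, x i • Pi.single i 1) - σ (π (∑ i, x i • Pi.single i 1)) := by rw [← pi_eq_sum_univ' x]
        _ = _ := by simp only [map_sum, map_smul, smul_sub, Finset.sum_sub_distrib]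
    rw [hx']
    exact Submodule.sum_mem _ fun i _ => Submodule.smul_mem_smul (hxQ i) (hτ _)
  obtain ⟨a, ha, ha'⟩ := Submodule.exists_sub_one_mem_and_smul_eq_zero_of_fg_of_le_smul Q _ hfg hle
  refine ⟨a, fun h => ‹Q.IsPrime›.ne_top ((Ideal.eq_top_iff_one _).2 (by simpa using Q.sub_mem h ha)),
    fun x hx => ha' x (by rw [LinearMap.mem_ker, hπx, hx])⟩

/-- The data at the level of `R`. -/
theorem exists_data [Module.Flat R B] [Algebra.FinitePresentation R B] [Algebra.QuasiFinite R B]
    (g : B) (hg : g ≠ 0) :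
    ∃ (r : R) (J : Ideal R) (n : ℕ) (e : Fin n → B), 0 < n ∧ (∀ N : ℕ, r ^ N • g ≠ 0) ∧ J.FG ∧
      (∀ j ∈ J, j • g = 0) ∧
      (∀ b : B, ∃ (N : ℕ) (c : Fin n → R), r ^ N • b - ∑ i, c i • e i ∈ J • (⊤ : Submodule R B)) ∧
      (∀ x : Fin n → R, ∑ i, x i • e i ∈ J • (⊤ : Submodule R B) → ∃ N : ℕ, ∀ i, r ^ N * x i ∈ J) := by
  classical
  let K : Ideal R := LinearMap.ker (LinearMap.toSpanSingleton R B g)
  have hKg : ∀ j, j ∈ K ↔ j • g = 0 := fun j => by simp [K]
  have hK : K ≠ ⊤ := fun h => hg (by simpa using (hKg 1).1 (h ▸ Submodule.mem_top))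
  obtain ⟨M, hM, hKM⟩ := Ideal.exists_le_maximal K hK
  obtain ⟨P, hP, -⟩ := Ideal.exists_minimalPrimes_le (J := M) hKM
  haveI : P.IsPrime := hP.1.1
  have hKP : K ≤ P := hP.1.2
  let κ := P.ResidueField
  haveI : Module.Finite κ (κ ⊗[R] B) := Algebra.QuasiFinite.finite_fiber (R := R) (S := B) P
  -- a basis of the fibre made of elements of `B`
  have hgen : Submodule.span κ (Set.range fun b : B => (1 : κ) ⊗ₜ[R] b) = ⊤ := by
    refine eq_top_iff.2 fun z _ => ?_
    induction z using TensorProduct.induction_on with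
    | zero => exact Submodule.zero_mem _
    | tmul a b =>
      rw [show a ⊗ₜ[R] b = a • ((1 : κ) ⊗ₜ[R] b) by rw [TensorProduct.smul_tmul', smul_eq_mul, mul_one]]
      exact Submodule.smul_mem _ _ (Submodule.subset_span ⟨b, rfl⟩)
    | add x y hx hy => exact Submodule.add_mem _ (hx trivial) (hy trivial)
  obtain ⟨S, hSsub, hSspan, hSind⟩ := exists_linearIndependent κ (Set.range fun b : B => (1 : κ) ⊗ₜ[R] b)
  haveI : Finite S := hSind.finite
  let n := Nat.card S
  let σ : Fin n ≃ S := (Finite.equivFin S).symm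
  choose pre hpre using fun z : S => hSsub z.2
  let e : Fin n → B := fun i => pre (σ i)
  have hei : ∀ i, (1 : κ) ⊗ₜ[R] e i = (σ i : κ ⊗[R] B) := fun i => hpre (σ i)
  have hind : LinearIndependent κ fun i => (1 : κ) ⊗ₜ[R] e i := by
    simp only [hei]; exact hSind.comp σ σ.injective
  have hspan : Submodule.span κ (Set.range fun i => (1 : κ) ⊗ₜ[R] e i) = ⊤ := by
    rw [← hgen, ← hSspan]
    congr 1
    simp only [hei]
    ext z
    exact ⟨by rintro ⟨i, rfl⟩; exact (σ i).2, fun hz => ⟨σ.symm ⟨z, hz⟩, by simp⟩⟩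
  -- lifting the spanning property
  have hlift : ∀ b : B, ∃ (s : R) (c : Fin n → R), s ∉ P ∧ s • b - ∑ i, c i • e i ∈ P • (⊤ : Submodule R B) := by
    intro b
    obtain ⟨w, hw⟩ := (Submodule.mem_span_range_iff_exists_fun κ).1
      (hspan ▸ Submodule.mem_top : (1 : κ) ⊗ₜ[R] b ∈ _)
    obtain ⟨t, ht⟩ := IsLocalization.exist_integer_multiples_of_finite (nonZeroDivisors (R ⧸ P)) w
    obtain ⟨t', ht'⟩ := Ideal.Quotient.mk_surjective (t : R ⧸ P)
    choose c hc using ht
    choose c' hc' using fun i => Ideal.Quotient.mk_surjective (c i)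
    have ht'P : t' ∉ P := fun h => nonZeroDivisors.coe_ne_zero t (by rw [← ht', Ideal.Quotient.eq_zero_iff_mem]; exact h)
    have h0 : (1 : κ) ⊗ₜ[R] (t' • b - ∑ i, c' i • e i) = 0 := by
      rw [TensorProduct.tmul_sub, TensorProduct.tmul_sum, TensorProduct.tmul_smul, ← hw, Finset.smul_sum, sub_eq_zero]
      refine Finset.sum_congr rfl fun i _ => ?_
      rw [TensorProduct.tmul_smul, ← smul_assoc, ← algebraMap_smul κ (c' i)]
      congr 1
      rw [IsScalarTower.algebraMap_apply R (R ⧸ P) κ, Ideal.Quotient.algebraMap_eq, hc', hc, ← ht',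
        ← Ideal.Quotient.algebraMap_eq, algebraMap_smul]
    obtain ⟨s, hs, hmem⟩ := exists_mul_mem_of_tmul_eq_zero P _ h0
    refine ⟨s * t', fun i => s * c' i, fun h => (Ideal.IsPrime.mem_or_mem ‹_› h).elim hs ht'P, ?_⟩
    simpa [smul_sub, Finset.smul_sum, mul_smul] using hmem
  -- finitely many relations
  obtain ⟨G, hG⟩ := (inferInstance : Algebra.FinitePresentation R B) |> fun _ => (Algebra.FiniteType.out (R := R) (A := B))
  let T : Finset B := insert 1 (G.biUnion fun x => Finset.univ.image fun i => x * e i)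
  choose s c hs hrel using hlift
  -- a finitely generated ideal inside `P` containing all coefficients
  have hfin : ∀ z ∈ P • (⊤ : Submodule R B), ∃ F : Finset R, ↑F ⊆ (P : Set R) ∧ z ∈ Ideal.span (F : Set R) • (⊤ : Submodule R B) := by
    intro z hz
    refine Submodule.smul_induction_on hz (fun p hp m _ => ⟨{p}, by simpa using hp, Submodule.smul_mem_smul (Ideal.subset_span (by simp)) trivial⟩) ?_
    · intro x y hx hy
      obtain ⟨F, hF, hF'⟩ := hx
      obtain ⟨F', hG, hG'⟩ := hy
      refine ⟨F ∪ F', by simp [Set.union_subset_iff, hF, hG], Submodule.add_mem _ ?_ ?_⟩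
      · exact Submodule.smul_mono (Ideal.span_mono (by simp)) le_rfl hF'
      · exact Submodule.smul_mono (Ideal.span_mono (by simp)) le_rfl hG'
  choose F hFP hF using fun b => hfin _ (hrel b)
  let FF : Finset R := T.biUnion F
  have hnil : ∀ p ∈ FF, ∃ (q : R) (m : ℕ), q ∉ P ∧ q * p ^ m ∈ K := by
    intro p hp
    obtain ⟨b, -, hb⟩ := Finset.mem_biUnion.1 hp
    have hpP : p ∈ P := hFP b hb
    by_contra hcon
    push Not at hcon
    obtain ⟨Q, hQ, hKQ, hQS⟩ := Ideal.exists_le_prime_disjoint K (P.primeCompl ⊔ Submonoid.powers p)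
      (Set.disjoint_left.2 fun x hxK hx => by
        obtain ⟨q, hq, _, ⟨m, rfl⟩, rfl⟩ := Submonoid.mem_sup.1 hx
        exact hcon q m hq hxK)
    have hQP : Q ≤ P := fun x hx => by
      by_contra hxP
      exact Set.disjoint_left.1 hQS hx (Submonoid.mem_sup_left hxP)
    have := hP.2 ⟨hQ, hKQ⟩ hQP hpP
    exact Set.disjoint_left.1 hQS this (Submonoid.mem_sup_right (Submonoid.mem_powers p))
  choose! q m hq hqm using hnil
  let J₀ : Ideal R := Ideal.span (FF.image fun p => q p * p ^ m p : Set R)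
  have hJ₀K : J₀ ≤ K := Ideal.span_le.2 fun x hx => by
    simp only [Finset.coe_image, Set.mem_image, Finset.mem_coe] at hx
    obtain ⟨p, hp, rfl⟩ := hx
    exact hqm p hp
  let r₀ : R := (∏ b ∈ T, s b) * ∏ p ∈ FF, q p
  have hr₀ : r₀ ∉ P := fun h => by
    rcases Ideal.IsPrime.mem_or_mem ‹_› h with h | h
    · obtain ⟨b, -, hb⟩ := (Ideal.IsPrime.prod_mem_iff (p := P)).1 h; exact hs b hb
    · obtain ⟨p, hp, hb⟩ := (Ideal.IsPrime.prod_mem_iff (p := P)).1 h; exact hq p hp hb
  -- the rings near `P`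
  let rb : R ⧸ J₀ := Ideal.Quotient.mk J₀ r₀
  let A := Localization.Away rb
  let C := A ⊗[R] B
  let ε : Fin n → C := fun i => (1 : A) ⊗ₜ[R] e i
  have hA0 : ∀ j ∈ J₀, algebraMap R A j = 0 := fun j hj => by
    rw [IsScalarTower.algebraMap_apply R (R ⧸ J₀) A, Ideal.Quotient.algebraMap_eq, Ideal.Quotient.eq_zero_iff_mem.2 hj,
      map_zero]
  have hur : IsUnit (algebraMap R A r₀) := by
    rw [IsScalarTower.algebraMap_apply R (R ⧸ J₀) A]
    exact IsLocalization.Away.algebraMap_isUnit rb
  -- the nilpotent ideal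
  let N : Ideal A := Ideal.span ((algebraMap R A) '' (FF : Set R))
  have hN : IsNilpotent N := by
    refine (Ideal.FG.isNilpotent_iff_le_nilradical ⟨FF.image (algebraMap R A), by simp [N]⟩).2 (Ideal.span_le.2 ?_)
    rintro _ ⟨p, hp, rfl⟩
    refine ⟨m p, ?_⟩
    have hu : IsUnit (algebraMap R A (q p)) :=
      isUnit_of_dvd_unit (map_dvd _ (dvd_mul_of_dvd_right (Finset.dvd_prod_of_mem q hp) _)) hur
    have h0 : algebraMap R A (q p) * algebraMap R A p ^ m p = 0 := by
      rw [← map_pow, ← map_mul]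
      exact hA0 _ (Ideal.subset_span (by simpa using ⟨p, hp, rfl⟩))
    exact (hu.mul_right_eq_zero).1 h0
  let S' : Submodule A C := Submodule.span A (Set.range ε) ⊔ N • ⊤
  have hT : ∀ b ∈ T, (1 : A) ⊗ₜ[R] b ∈ S' := by
    intro b hb
    have hu : IsUnit (algebraMap R A (s b)) :=
      isUnit_of_dvd_unit (map_dvd _ (dvd_mul_of_dvd_left (Finset.dvd_prod_of_mem s hb) _)) hur
    have hmem : (1 : A) ⊗ₜ[R] (s b • b - ∑ i, c b i • e i) ∈ N • (⊤ : Submodule A C) := by
      refine Submodule.smul_induction_on (hF b) (fun p hp z _ => ?_) (fun x y hx hy => by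
        rw [TensorProduct.tmul_add]; exact Submodule.add_mem _ hx hy)
      rw [TensorProduct.tmul_smul, ← algebraMap_smul A p]
      refine Submodule.smul_mem_smul ?_ trivial
      have : algebraMap R A p ∈ (Ideal.span (F b : Set R)).map (algebraMap R A) := Ideal.mem_map_of_mem _ hp
      rw [Ideal.map_span] at this
      exact Ideal.span_mono (Set.image_mono fun x hx => Finset.mem_biUnion.2 ⟨b, hb, hx⟩) this
    have h1 : algebraMap R A (s b) • ((1 : A) ⊗ₜ[R] b) ∈ S' := by
      have h2 : algebraMap R A (s b) • ((1 : A) ⊗ₜ[R] b) =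
          (1 : A) ⊗ₜ[R] (s b • b - ∑ i, c b i • e i) + ∑ i, algebraMap R A (c b i) • ε i := by
        simp only [TensorProduct.tmul_sub, TensorProduct.tmul_sum, algebraMap_smul, TensorProduct.tmul_smul, ε,
          sub_add_cancel]
      rw [h2]
      exact Submodule.add_mem _ (Submodule.mem_sup_right hmem) (Submodule.mem_sup_left
        (Submodule.sum_mem _ fun i _ => Submodule.smul_mem _ _ (Submodule.subset_span ⟨i, rfl⟩)))
    obtain ⟨v, hv⟩ := hu.exists_left_inv
    have := S'.smul_mem v h1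
    rwa [smul_smul, hv, one_smul] at this
  -- `S'` is everything
  have hmulG : ∀ x ∈ G, ∀ z ∈ S', ((1 : A) ⊗ₜ[R] x) * z ∈ S' := by
    intro x hx z hz
    obtain ⟨z₁, hz₁, z₂, hz₂, rfl⟩ := Submodule.mem_sup.1 hz
    rw [mul_add]
    refine Submodule.add_mem _ ?_ (Submodule.mem_sup_right ?_)
    · clear hz
      induction hz₁ using Submodule.span_induction with
      | mem y hy =>
        obtain ⟨i, rfl⟩ := hy
        rw [Algebra.TensorProduct.tmul_mul_tmul, one_mul]
        exact hT _ (Finset.mem_insert_of_mem (Finset.mem_biUnion.2 ⟨x, hx, Finset.mem_image.2 ⟨i, Finset.mem_univ _, rfl⟩⟩))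
      | zero => rw [mul_zero]; exact Submodule.zero_mem _
      | add a b _ _ ha hb => rw [mul_add]; exact Submodule.add_mem _ ha hb
      | smul a y _ hy => rw [mul_smul_comm]; exact Submodule.smul_mem _ _ hy
    · refine Submodule.smul_induction_on hz₂ (fun a ha y _ => ?_) (fun a b ha hb => by
        rw [mul_add]; exact Submodule.add_mem _ ha hb)
      rw [mul_smul_comm]
      exact Submodule.smul_mem_smul ha trivial
  have hall : ∀ z ∈ S', ∀ b : B, ((1 : A) ⊗ₜ[R] b) * z ∈ S' := by
    intro z hz b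
    have hb : b ∈ Algebra.adjoin R (G : Set B) := by rw [hG]; trivial
    revert z
    induction hb using Algebra.adjoin_induction with
    | mem x hx => exact fun z hz => hmulG x hx z hz
    | algebraMap a =>
      intro z hz
      rw [Algebra.algebraMap_eq_smul_one, TensorProduct.tmul_smul, ← algebraMap_smul A a, smul_mul_assoc,
        ← Algebra.TensorProduct.one_def, one_mul]
      exact Submodule.smul_mem _ _ hz
    | add x y _ _ hx hy => intro z hz; rw [TensorProduct.tmul_add, add_mul]; exact Submodule.add_mem _ (hx z hz) (hy z hz)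
    | mul x y _ _ hx hy =>
      intro z hz
      rw [show (1 : A) ⊗ₜ[R] (x * y) = ((1 : A) ⊗ₜ[R] x) * ((1 : A) ⊗ₜ[R] y) by
        rw [Algebra.TensorProduct.tmul_mul_tmul, one_mul], mul_assoc]
      exact hx _ (hy z hz)
  have htop : S' = ⊤ := by
    refine eq_top_iff.2 fun z _ => ?_
    induction z using TensorProduct.induction_on with
    | zero => exact Submodule.zero_mem _
    | tmul a b =>
      rw [show a ⊗ₜ[R] b = a • (((1 : A) ⊗ₜ[R] b) * ((1 : A) ⊗ₜ[R] (1 : B))) by
        rw [Algebra.TensorProduct.tmul_mul_tmul, one_mul, mul_one, TensorProduct.smul_tmul', smul_eq_mul, mul_one]]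
      exact Submodule.smul_mem _ _ (hall _ (hT 1 (Finset.mem_insert_self _ _)) b)
    | add x y hx hy => exact Submodule.add_mem _ (hx trivial) (hy trivial)
  have hεspan : Submodule.span A (Set.range ε) = ⊤ := by
    obtain ⟨k, hk⟩ := hN
    have : ∀ j : ℕ, Submodule.span A (Set.range ε) ⊔ N ^ j • (⊤ : Submodule A C) = ⊤ := by
      intro j
      induction j with
      | zero => rw [pow_zero, Ideal.one_eq_top, Submodule.top_smul]; exact sup_top_eq _
      | succ j ih =>
        refine eq_top_iff.2 ?_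
        conv_lhs => rw [← ih]
        refine sup_le le_sup_left ?_
        conv_lhs => rw [← htop]
        rw [Submodule.smul_sup, pow_succ, ← Submodule.smul_assoc, smul_eq_mul]
        exact sup_le (le_sup_of_le_left Submodule.smul_le_right) le_sup_right
    simpa [hk] using this k
  -- independence near `P`
  have hψ0 : ∀ j ∈ J₀, algebraMap R κ j = 0 := fun j hj => by
    rw [← RingHom.mem_ker, Ideal.ker_algebraMap_residueField]
    exact hKP (hJ₀K hj)
  have hrb : ∀ x, algebraMap R κ x = (Ideal.Quotient.liftₐ J₀ (Algebra.ofId R κ) hψ0) (Ideal.Quotient.mk J₀ x) :=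
    fun x => (Ideal.Quotient.lift_mk J₀ _ hψ0 (a := x)).symm
  have hunit : IsUnit ((Ideal.Quotient.liftₐ J₀ (Algebra.ofId R κ) hψ0).toRingHom rb) := by
    refine isUnit_iff_ne_zero.2 fun h => hr₀ ?_
    rw [← Ideal.ker_algebraMap_residueField (I := P), RingHom.mem_ker, hrb]
    exact h
  let ψ₀ : A →+* κ := IsLocalization.Away.lift rb hunit
  let ψ : A →ₐ[R] κ := { ψ₀ with
    commutes' := fun x => by
      show ψ₀ (algebraMap R A x) = _
      rw [IsScalarTower.algebraMap_apply R (R ⧸ J₀) A, hrb]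
      exact IsLocalization.Away.lift_eq rb hunit _ }
  let Q : Ideal A := RingHom.ker ψ
  haveI : Q.IsPrime := RingHom.ker_isPrime _
  have hindQ : ∀ x : Fin n → A, ∑ i, x i • ε i = 0 → ∀ i, x i ∈ Q := by
    intro x hx i
    have h := congrArg (Algebra.TensorProduct.map ψ (AlgHom.id R B)) hx
    rw [map_zero, map_sum] at h
    have h' : ∑ i, ψ (x i) • ((1 : κ) ⊗ₜ[R] e i) = 0 := by
      rw [← h]
      refine Finset.sum_congr rfl fun i _ => ?_
      rw [show x i • ε i = x i ⊗ₜ[R] e i from (TensorProduct.smul_tmul' (x i) (1 : A) (e i)).trans (by rw [smul_eq_mul, mul_one]), Algebra.TensorProduct.map_tmul, TensorProduct.smul_tmul', smul_eq_mul, mul_one, AlgHom.coe_id, id]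
    exact RingHom.mem_ker.2 (Fintype.linearIndependent_iff.1 hind _ h' i)
  obtain ⟨a, haQ, hak⟩ := exists_kills ε hεspan Q hindQ
  obtain ⟨⟨a', ⟨_, k, rfl⟩⟩, ha'⟩ := IsLocalization.surj (Submonoid.powers rb) a
  obtain ⟨a₀, rfl⟩ := Ideal.Quotient.mk_surjective a'
  simp only at ha'
  have ha₀ : a₀ ∉ P := by
    intro h
    refine haQ (RingHom.mem_ker.2 ?_)
    have h1 := congrArg ψ ha'
    rw [map_mul, ← Ideal.Quotient.algebraMap_eq, ← IsScalarTower.algebraMap_apply, ψ.commutes,
      show algebraMap R κ a₀ = 0 by rw [← RingHom.mem_ker, Ideal.ker_algebraMap_residueField]; exact h,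
      map_pow (algebraMap (R ⧸ J₀) A), map_pow] at h1
    refine (mul_eq_zero.1 h1).resolve_right (pow_ne_zero _ ?_)
    refine IsUnit.ne_zero ((IsLocalization.Away.algebraMap_isUnit rb).map ψ)
  -- the conclusion
  have hzero : ∀ b : B, (1 : A) ⊗ₜ[R] b = 0 → ∃ N : ℕ, r₀ ^ N • b ∈ J₀ • (⊤ : Submodule R B) := by
    intro b hb
    obtain ⟨t, ⟨N, hN⟩, ht⟩ := exists_mem_of_tmul_eq_zero J₀ (Submonoid.powers rb) A b hb
    refine ⟨N, ?_⟩
    have hd : r₀ ^ N - t ∈ J₀ := Ideal.Quotient.eq.1 (by rw [map_pow]; exact hN)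
    rw [show r₀ ^ N = t + (r₀ ^ N - t) by ring, add_smul]
    exact Submodule.add_mem _ ht (Submodule.smul_mem_smul hd trivial)
  have hJg : ∀ z ∈ J₀ • (⊤ : Submodule R B), z * g = 0 := fun z hz =>
    Submodule.smul_induction_on hz (fun j hj m _ => by rw [smul_mul_assoc, ← mul_smul_comm, (hKg j).1 (hJ₀K hj), mul_zero])
      fun x y hx hy => by rw [add_mul, hx, hy, add_zero]
  refine ⟨r₀ * a₀, J₀, n, e, ?_, fun N h => ?_, ⟨FF.image fun p => q p * p ^ m p, rfl⟩,
    fun j hj => (hKg j).1 (hJ₀K hj), fun b => ?_, fun x hx => ?_⟩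
  · -- the fibre is not zero
    by_contra h0
    have hn : n = 0 := by omega
    haveI : IsEmpty (Fin n) := hn ▸ Fin.isEmpty'
    have hone : (1 : A) ⊗ₜ[R] (1 : B) = 0 := by
      rw [← Submodule.mem_bot A, ← Submodule.span_empty, ← Set.range_eq_empty ε, hεspan]; trivial
    obtain ⟨N, hN'⟩ := hzero 1 hone
    have h1 := hJg _ hN'
    rw [smul_mul_assoc, one_mul] at h1
    exact hr₀ (Ideal.IsPrime.mem_of_pow_mem ‹P.IsPrime› _ (hKP ((hKg _).2 h1)))
  · exact (Ideal.IsPrime.mem_or_mem ‹P.IsPrime› (Ideal.IsPrime.mem_of_pow_mem ‹_› _ (hKP ((hKg _).2 h)))).elim hr₀ ha₀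
  · obtain ⟨w, hw⟩ := (Submodule.mem_span_range_iff_exists_fun A).1 (hεspan ▸ Submodule.mem_top : (1 : A) ⊗ₜ[R] b ∈ _)
    obtain ⟨⟨_, k', rfl⟩, ht⟩ := IsLocalization.exist_integer_multiples_of_finite (Submonoid.powers rb) w
    choose d hd using ht
    choose d' hd' using fun i => Ideal.Quotient.mk_surjective (d i)
    have h0 : (1 : A) ⊗ₜ[R] (r₀ ^ k' • b - ∑ i, d' i • e i) = 0 := by
      rw [TensorProduct.tmul_sub, TensorProduct.tmul_sum, TensorProduct.tmul_smul, ← hw, Finset.smul_sum, sub_eq_zero]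
      refine Finset.sum_congr rfl fun i _ => ?_
      rw [TensorProduct.tmul_smul, ← smul_assoc, ← algebraMap_smul A (d' i)]
      congr 1
      rw [IsScalarTower.algebraMap_apply R (R ⧸ J₀) A, Ideal.Quotient.algebraMap_eq, hd', hd,
        ← algebraMap_smul (R ⧸ J₀) (r₀ ^ k'), Ideal.Quotient.algebraMap_eq, map_pow]
    obtain ⟨N, hN⟩ := hzero _ h0
    refine ⟨N + k', fun i => a₀ ^ (N + k') * r₀ ^ N * d' i, ?_⟩
    have := Submodule.smul_mem _ (a₀ ^ (N + k')) hN
    simpa [smul_sub, Finset.smul_sum, smul_smul, mul_pow, pow_add, mul_comm, mul_left_comm, mul_assoc] using this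
  · have h0 : ∑ i, algebraMap R A (x i) • ε i = 0 := by
      have e1 : (1 : A) ⊗ₜ[R] (∑ i, x i • e i) = 0 := by
        refine Submodule.smul_induction_on hx (fun j hj z _ => ?_) (fun u v hu hv => by
          rw [TensorProduct.tmul_add, hu, hv, add_zero])
        rw [TensorProduct.tmul_smul, ← algebraMap_smul A j, hA0 j hj, zero_smul]
      rw [← e1, TensorProduct.tmul_sum]
      exact Finset.sum_congr rfl fun i _ => by rw [TensorProduct.tmul_smul, algebraMap_smul]
    have h1 := hak _ h0
    have h2 : ∀ i, ∃ M : ℕ, r₀ ^ M * (a₀ * x i) ∈ J₀ := by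
      intro i
      have h3 : algebraMap (R ⧸ J₀) A (Ideal.Quotient.mk J₀ (a₀ * x i)) = 0 := by
        rw [map_mul, map_mul, ← ha']
        have h4 : a * algebraMap R A (x i) = 0 := by simpa using congrFun h1 i
        rw [mul_right_comm, ← Ideal.Quotient.algebraMap_eq, ← IsScalarTower.algebraMap_apply, h4, zero_mul]
      obtain ⟨⟨_, M, rfl⟩, hM⟩ := (IsLocalization.map_eq_zero_iff (Submonoid.powers rb) A _).1 h3
      exact ⟨M, Ideal.Quotient.eq_zero_iff_mem.1 (by rw [map_mul, map_pow]; exact hM)⟩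
    choose M hM using h2
    refine ⟨Finset.univ.sup M + 1, fun i => ?_⟩
    obtain ⟨d, hd⟩ : ∃ d, Finset.univ.sup M = M i + d := Nat.exists_eq_add_of_le (Finset.le_sup (Finset.mem_univ i))
    have := J₀.mul_mem_left (r₀ ^ (d + 1) * a₀ ^ (M i + d)) (hM i)
    rw [hd]
    ring_nf at this ⊢
    exact this

/-- A form of `exists_data` inside any localizations. -/
theorem exists_map [Module.Flat R B] [Algebra.FinitePresentation R B] [Algebra.QuasiFinite R B]
    (g : B) (hg : g ≠ 0) :
    ∃ r : R, (∀ N : ℕ, r ^ N • g ≠ 0) ∧ ∀ (R' B' : Type u) [CommRing R'] [CommRing B'] [Algebra R R'] [Algebra B B']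
      [Algebra R' B'] [IsLocalization.Away r R'] [IsLocalization.Away (algebraMap R B r) B'],
      (algebraMap R' B').comp (algebraMap R R') = (algebraMap B B').comp (algebraMap R B) →
      ∃ (F : Ideal R') (n : ℕ), 0 < n ∧ ∃ φ : (Fin n → ↥F) →ₗ[R'] B',
        Function.Injective φ ∧ algebraMap B B' g ∈ LinearMap.range φ := by
  classical
  obtain ⟨r, J, n, e, hn, hr, hJ, hJg, hspan, hind⟩ := exists_data (R := R) g hg
  refine ⟨r, hr, fun R' B' _ _ _ _ _ _ _ hcomp => ?_⟩
  have hc : ∀ x : R, algebraMap R' B' (algebraMap R R' x) = algebraMap B B' (algebraMap R B x) :=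
    fun x => RingHom.congr_fun hcomp x
  let F : Ideal R' :=
    { carrier := {x | ∀ j ∈ J, algebraMap R R' j * x = 0}
      add_mem' := fun hx hy j hj => by rw [mul_add, hx j hj, hy j hj, add_zero]
      zero_mem' := fun j _ => mul_zero _
      smul_mem' := fun c x hx j hj => by rw [smul_eq_mul, mul_left_comm, hx j hj, mul_zero] }
  let φ : (Fin n → ↥F) →ₗ[R'] B' :=
    (Fintype.linearCombination R' fun i => algebraMap B B' (e i)).comp (LinearMap.pi fun i => F.subtype.comp (LinearMap.proj i))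
  have hφ : ∀ x, φ x = ∑ i, algebraMap R' B' (x i : R') * algebraMap B B' (e i) := fun x => by
    simp [φ, Fintype.linearCombination_apply, Algebra.smul_def]
  refine ⟨F, n, hn, φ, ?_, ?_⟩
  · rw [injective_iff_map_eq_zero]
    intro x hx
    obtain ⟨⟨_, k, rfl⟩, ht⟩ := IsLocalization.exist_integer_multiples_of_finite (Submonoid.powers r) fun i => (x i : R')
    choose y hy using ht
    have hur : IsUnit (algebraMap R R' r) := IsLocalization.Away.algebraMap_isUnit r
    obtain ⟨Jg, hJspan⟩ := hJ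
    have hy0 : ∀ i, ∀ j ∈ J, algebraMap R R' (j * y i) = 0 := fun i j hj => by
      rw [map_mul, hy i, Algebra.smul_def, mul_left_comm, (x i).2 j hj, mul_zero]
    have h1 : ∀ i, ∀ j ∈ Jg, ∃ M : ℕ, r ^ M * (j * y i) = 0 := fun i j hj => by
      obtain ⟨⟨_, M, rfl⟩, hM⟩ := (IsLocalization.map_eq_zero_iff (Submonoid.powers r) R' _).1
        (hy0 i j (hJspan ▸ Ideal.subset_span hj))
      exact ⟨M, hM⟩
    choose! M hM using h1
    let MM := Finset.univ.sup fun i => Jg.sup (M i)
    have hz : ∀ i, ∀ j ∈ J, j * (r ^ MM * y i) = 0 := by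
      intro i j hj
      rw [← hJspan] at hj
      induction hj using Submodule.span_induction with
      | mem j hj =>
        obtain ⟨d, hd⟩ : ∃ d, MM = M i j + d := Nat.exists_eq_add_of_le
          (le_trans (Finset.le_sup (f := M i) hj) (Finset.le_sup (f := fun i => Jg.sup (M i)) (Finset.mem_univ i)))
        rw [hd, show j * (r ^ (M i j + d) * y i) = r ^ d * (r ^ M i j * (j * y i)) by ring, hM i j hj, mul_zero]
      | zero => rw [zero_mul]
      | add a b _ _ ha hb => rw [add_mul, ha, hb, add_zero]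
      | smul c a _ ha => rw [smul_eq_mul, mul_assoc, ha, mul_zero]
    have h2 : algebraMap B B' (∑ i, y i • e i) = 0 := by
      rw [hφ] at hx
      have h3 : ∑ i, algebraMap R' B' (algebraMap R R' (y i)) * algebraMap B B' (e i) = 0 := by
        simp only [hy, Algebra.smul_def, map_mul, mul_assoc]
        rw [← Finset.mul_sum, hx, mul_zero]
      rw [← h3, map_sum]
      exact Finset.sum_congr rfl fun i _ => by rw [Algebra.smul_def, map_mul, hc]
    obtain ⟨⟨_, M', rfl⟩, hM'⟩ := (IsLocalization.map_eq_zero_iff (Submonoid.powers (algebraMap R B r)) B' _).1 h2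
    simp only at hM'
    let z : Fin n → R := fun i => r ^ (MM + M') * y i
    have hzj : ∀ i, ∀ j ∈ J, j * z i = 0 := fun i j hj => by
      rw [show j * z i = r ^ M' * (j * (r ^ MM * y i)) by simp only [z]; ring, hz i j hj, mul_zero]
    have hz0 : ∑ i, z i • e i = 0 := by
      rw [show ∑ i, z i • e i = r ^ MM • (algebraMap R B r ^ M' * ∑ i, y i • e i) by
        rw [Finset.mul_sum, Finset.smul_sum]
        refine Finset.sum_congr rfl fun i _ => ?_
        simp only [z, Algebra.smul_def, map_mul, map_pow, pow_add]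
        ring, hM', smul_zero]
    obtain ⟨κ, a, w, hew, haz⟩ := Module.Flat.isTrivialRelation_of_sum_smul_eq_zero (R := R) (M := B) (f := z) (x := e) hz0
    choose NN c hNc using fun l => hspan (w l)
    let N₁ := Finset.univ.sup NN
    let δ : Fin n → Fin n → R := fun i l => (if l = i then r ^ N₁ else 0) - ∑ m, a i m * (r ^ (N₁ - NN m) * c m l)
    have hδ : ∀ i, ∑ l, δ i l • e l ∈ J • (⊤ : Submodule R B) := fun i => by
      have e1 : ∑ l, δ i l • e l = ∑ m, (a i m * r ^ (N₁ - NN m)) • (r ^ NN m • w m - ∑ l, c m l • e l) := by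
        simp only [δ, sub_smul, Finset.sum_sub_distrib, smul_sub, Finset.sum_smul, ite_smul, zero_smul,
          Finset.sum_ite_eq', Finset.mem_univ, if_true, Finset.smul_sum, smul_smul, mul_assoc]
        rw [Finset.sum_comm (f := fun l m => (a i m * (r ^ (N₁ - NN m) * c m l)) • e l)]
        congr 1
        rw [hew i, Finset.smul_sum]
        refine Finset.sum_congr rfl fun m _ => ?_
        rw [smul_smul, ← pow_add, Nat.sub_add_cancel (Finset.le_sup (Finset.mem_univ m)), mul_comm]
      rw [e1]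
      exact Submodule.sum_mem _ fun m _ => Submodule.smul_mem _ _ (hNc m)
    choose N₂ hN₂ using fun i => hind (δ i) (hδ i)
    let N₃ := Finset.univ.sup N₂
    have hkill : ∀ l, r ^ (N₃ + N₁) * z l = 0 := fun l => by
      have e2 : ∑ i, r ^ N₃ * δ i l * z i = 0 := Finset.sum_eq_zero fun i _ => by
        obtain ⟨d, hd⟩ : ∃ d, N₃ = N₂ i + d := Nat.exists_eq_add_of_le (Finset.le_sup (Finset.mem_univ i))
        rw [hd, show r ^ (N₂ i + d) * δ i l * z i = r ^ d * ((r ^ N₂ i * δ i l) * z i) by ring,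
          hzj i _ (hN₂ i l), mul_zero]
      simp only [δ, mul_sub, sub_mul, Finset.sum_sub_distrib, mul_ite, ite_mul, mul_zero, zero_mul,
        Finset.sum_ite_eq, Finset.mem_univ, if_true, Finset.mul_sum, Finset.sum_mul] at e2
      rw [Finset.sum_comm] at e2
      rw [Finset.sum_eq_zero (s := Finset.univ) (f := fun m => ∑ i, r ^ N₃ * (a i m * (r ^ (N₁ - NN m) * c m l)) * z i)
        (fun m _ => by
          calc ∑ i, r ^ N₃ * (a i m * (r ^ (N₁ - NN m) * c m l)) * z i
              = r ^ N₃ * (r ^ (N₁ - NN m) * c m l) * ∑ i, z i * a i m := by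
                rw [Finset.mul_sum]; exact Finset.sum_congr rfl fun i _ => by ring
            _ = 0 := by rw [show ∑ i, z i * a i m = 0 from by simpa [smul_eq_mul] using haz m, mul_zero]),
        sub_zero, ← pow_add] at e2
      exact e2
    funext l
    apply Subtype.ext
    have h4 : algebraMap R R' (y l) = 0 := by
      have h5 := congrArg (algebraMap R R') (hkill l)
      simp only [z] at h5
      rw [← mul_assoc, ← pow_add, map_mul, map_zero, map_pow] at h5
      exact ((hur.pow _).mul_right_eq_zero).1 h5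
    rw [hy l, Algebra.smul_def, map_pow] at h4
    exact ((hur.pow _).mul_right_eq_zero).1 h4
  · obtain ⟨Jg, hJspan⟩ := hJ
    let f : (↥Jg → R) →ₗ[R] (Unit → R) :=
      LinearMap.pi fun _ => Fintype.linearCombination R fun j : ↥Jg => (j : R)
    obtain ⟨κ, _, a, w, ha, haf⟩ : ∃ (κ : Type) (_ : Fintype κ) (a : κ → R) (w : κ → B),
        g = ∑ m, a m • w m ∧ ∀ j ∈ J, ∀ m, j * a m = 0 := by
      let x : (Unit → R) →ₗ[R] B := (LinearMap.toSpanSingleton R B g).comp (LinearMap.proj ())
      have hxf : x ∘ₗ f = 0 := by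
        refine LinearMap.ext fun v => ?_
        simp [x, f, Fintype.linearCombination_apply, Finset.sum_smul, mul_smul,
          fun j : ↥Jg => hJg (j : R) (hJspan ▸ Ideal.subset_span j.2)]
      obtain ⟨k, a, y, hxy, haf⟩ := Module.Flat.exists_factorization_of_comp_eq_zero_of_free hxf
      refine ⟨Fin k, inferInstance, fun m => a (fun _ => 1) m, fun m => y (Finsupp.single m 1), ?_, ?_⟩
      · have h := LinearMap.congr_fun hxy (fun _ => 1)
        simp only [x, LinearMap.comp_apply, LinearMap.proj_apply, LinearMap.toSpanSingleton_apply, one_smul] at h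
        conv_lhs => rw [h, ← Finsupp.univ_sum_single (a fun _ => 1)]
        rw [map_sum]
        exact Finset.sum_congr rfl fun m _ => by rw [← map_smul, Finsupp.smul_single, smul_eq_mul, mul_one]
      · intro j hj m
        rw [← hJspan] at hj
        induction hj using Submodule.span_induction with
        | mem j hj =>
          have h := LinearMap.congr_fun haf (Pi.single (⟨j, hj⟩ : ↥Jg) 1)
          have h' : f (Pi.single (⟨j, hj⟩ : ↥Jg) 1) = j • (fun _ : Unit => (1 : R)) := by
            funext u; simp [f, Fintype.linearCombination_apply, Pi.single_apply]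
          rw [LinearMap.comp_apply, h', map_smul, LinearMap.zero_apply] at h
          simpa using DFunLike.congr_fun h m
        | zero => rw [zero_mul]
        | add u v _ _ hu hv => rw [add_mul, hu, hv, add_zero]
        | smul c u _ hu => rw [smul_eq_mul, mul_assoc, hu, mul_zero]
    choose NN c hNc using fun m => hspan (w m)
    let N₁ := Finset.univ.sup NN
    obtain ⟨u, hu⟩ := (IsLocalization.Away.algebraMap_isUnit (S := R') r).pow N₁
    have hmem : ∀ i, (↑u⁻¹ * ∑ m, algebraMap R R' (r ^ (N₁ - NN m) * a m * c m i) : R') ∈ F := fun i j hj => by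
      rw [mul_left_comm, Finset.mul_sum, Finset.sum_eq_zero (fun m _ => ?_), mul_zero]
      rw [← map_mul, show j * (r ^ (N₁ - NN m) * a m * c m i) = r ^ (N₁ - NN m) * c m i * (j * a m) by ring,
        haf j hj m, mul_zero, map_zero]
    refine ⟨fun i => ⟨_, hmem i⟩, ?_⟩
    rw [hφ]
    have hzero' : ∀ m, ∀ z ∈ J • (⊤ : Submodule R B), a m • z = 0 := fun m z hz =>
      Submodule.smul_induction_on hz (fun j hj v _ => by rw [smul_smul, mul_comm, haf j hj m, zero_smul])
        fun p q hp hq => by rw [smul_add, hp, hq, add_zero]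
    have key : ∑ i, (∑ m, r ^ (N₁ - NN m) * a m * c m i) • e i = r ^ N₁ • g := by
      simp only [Finset.sum_smul]
      rw [Finset.sum_comm, ha, Finset.smul_sum]
      refine Finset.sum_congr rfl fun m _ => ?_
      have h := hzero' m _ (hNc m)
      rw [smul_sub, sub_eq_zero, Finset.smul_sum, smul_smul] at h
      simp only [smul_smul] at h
      rw [show ∑ i, (r ^ (N₁ - NN m) * a m * c m i) • e i = r ^ (N₁ - NN m) • ∑ i, (a m * c m i) • e i by
        rw [Finset.smul_sum]; exact Finset.sum_congr rfl fun i _ => by rw [smul_smul, mul_assoc],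
        ← h, smul_smul, smul_smul, mul_left_comm, ← pow_add, Nat.sub_add_cancel (Finset.le_sup (Finset.mem_univ m)), mul_comm]
    have key' := congrArg (algebraMap B B') key
    rw [map_sum, Algebra.smul_def, map_mul, ← hc] at key'
    have hlhs : ∀ i, algebraMap B B' ((∑ m, r ^ (N₁ - NN m) * a m * c m i) • e i) =
        algebraMap R' B' (∑ m, algebraMap R R' (r ^ (N₁ - NN m) * a m * c m i)) * algebraMap B B' (e i) := fun i => by
      rw [Algebra.smul_def, map_mul, ← hc, map_sum]
    simp only [hlhs] at key'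
    calc ∑ i, algebraMap R' B' (↑u⁻¹ * ∑ m, algebraMap R R' (r ^ (N₁ - NN m) * a m * c m i)) * algebraMap B B' (e i)
        = algebraMap R' B' ↑u⁻¹ * (algebraMap R' B' (algebraMap R R' (r ^ N₁)) * algebraMap B B' g) := by
          rw [← key', Finset.mul_sum]
          exact Finset.sum_congr rfl fun i _ => by rw [map_mul, mul_assoc]
      _ = algebraMap B B' g := by
          rw [← mul_assoc, ← map_mul, map_pow, ← hu, Units.inv_mul, map_one, one_mul]

end FlatQFAnn
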